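import Groth.Agent.InvX.Tensor
import Groth.Prelude.Def_ProjUP
import Groth.Prelude.Def_Curv2
import Groth.Prelude.Def_FlatMod2

/-!
# Generating sections give epimorphisms
-/

universe u

open CategoryTheory CategoryTheory.Limits AlgebraicGeometry TopologicalSpace Opposite

set_option backward.isDefEq.respectTransparency false
set_option backward.isDefEq.respectTransparency.types false

namespace Groth.Agent.InvX

open Groth.Agent

variable {X : Scheme.{u}} {F G Z : X.Modules} {ι : Type*}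

/-- Morphisms agreeing on generating sections are equal. -/
theorem hom_ext_of_generated {s : ι → Γ(F, ⊤)} (hs : ProjUP.GeneratedBy F s) {φ ψ : F ⟶ G}
    (h : ∀ i, φ.app ⊤ (s i) = ψ.app ⊤ (s i)) : φ = ψ := by
  refine Scheme.Modules.hom_ext _ _ fun V => ?_
  ext m
  refine TopCat.Presheaf.section_ext ⟨G.presheaf, G.isSheaf⟩ _ _ _ fun x hx => ?_
  let a : KFlatLib.stalkMod x (DCoh.toP.obj F) →ₗ[X.presheaf.stalk x] KFlatLib.stalkMod x (DCoh.toP.obj G) :=
    ((KFlatLib.stalkP x).map (DCoh.toP.map φ)).hom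
  let b : KFlatLib.stalkMod x (DCoh.toP.obj F) →ₗ[X.presheaf.stalk x] KFlatLib.stalkMod x (DCoh.toP.obj G) :=
    ((KFlatLib.stalkP x).map (DCoh.toP.map ψ)).hom
  have hab : a = b := by
    refine LinearMap.ext_on_range (v := fun i => KFlatLib.germP (DCoh.toP.obj F) ⊤ trivial (s i)) (hs x) fun i => ?_
    refine (KFlatLib.stalkModMap_germ (DCoh.toP.map φ) ⊤ trivial (s i)).trans
      (Eq.trans ?_ (KFlatLib.stalkModMap_germ (DCoh.toP.map ψ) ⊤ trivial (s i)).symm)
    exact congrArg (KFlatLib.germP (DCoh.toP.obj G) ⊤ trivial) (h i)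
  exact (KFlatLib.stalkModMap_germ (DCoh.toP.map φ) V hx m).symm.trans
    ((LinearMap.congr_fun hab _).trans (KFlatLib.stalkModMap_germ (DCoh.toP.map ψ) V hx m))

/-- A map hitting generating sections is an epimorphism. -/
theorem epi_of_generated {s : ι → Γ(F, ⊤)} (hs : ProjUP.GeneratedBy F s) (p : Z ⟶ F)
    (j : ι → (Coh.structureModule X ⟶ Z)) (hj : ∀ i, one (j i ≫ p) = s i) : Epi p :=
  ⟨fun {W} φ ψ h => hom_ext_of_generated hs fun i => by
    rw [← hj i]
    exact congrArg (fun χ => one χ) (show (j i ≫ p) ≫ φ = (j i ≫ p) ≫ ψ by rw [Category.assoc, h, Category.assoc])⟩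

theorem isGloballyGenerated_of_generated {ι : Type u} {s : ι → Γ(F, ⊤)} (hs : ProjUP.GeneratedBy F s) :
    Curv2.IsGloballyGenerated F :=
  ⟨ι, Sigma.desc fun i => ofSect (s i),
    epi_of_generated hs _ (fun i => Sigma.ι (fun _ : ι => Coh.structureModule X) i)
      fun i => (congrArg one (Sigma.ι_desc _ _)).trans (one_ofSect _)⟩

theorem exists_epi_freeMod {k : ℕ} {s : Fin k → Γ(F, ⊤)} (hs : ProjUP.GeneratedBy F s) :
    ∃ p : FlatMod.freeMod X k ⟶ F, Epi p :=
  ⟨Sigma.desc fun i => ofSect (s i),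
    epi_of_generated hs _ (fun i => Sigma.ι (fun _ : Fin k => Coh.structureModule X) i)
      fun i => (congrArg one (Sigma.ι_desc _ _)).trans (one_ofSect _)⟩

end Groth.Agent.InvX
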