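import Groth.Agent.InvX.Frame

/-!
# The inverse image of a frame is a frame
-/

universe u

open CategoryTheory AlgebraicGeometry TopologicalSpace Opposite

namespace Groth.Agent.InvX

open Groth.Agent.AModX

variable {X Y : Scheme.{u}} (r : X ⟶ Y) {M : Y.Modules} {U : Y.Opens} {e : Γ(M, U)}

/-- The inverse image of a section. -/
noncomputable def pullElt (e : Γ(M, U)) : Γ((Scheme.Modules.pullback r).obj M, r ⁻¹ᵁ U) :=
  ((Scheme.Modules.pullbackPushforwardAdjunction r).unit.app M).app U e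

/-- The target of the comparison, adjointly. -/
noncomputable abbrev pushUnit (U : Y.Opens) : Y.Modules :=
  (Scheme.Modules.pushforward r).obj
    ((Scheme.Modules.pushforward (r ⁻¹ᵁ U).ι).obj (Coh.structureModule (r ⁻¹ᵁ U).toScheme))

lemma preimage_le (V : Y.Opens) :
    (r ⁻¹ᵁ U).ι ⁻¹ᵁ r ⁻¹ᵁ V ≤ ((r ⁻¹ᵁ U).ι ≫ r) ⁻¹ᵁ (V ⊓ U) :=
  fun z hz => ⟨hz, z.2⟩

/-- The coordinate, pulled back. -/
noncomputable def coordPull (he : IsFrame e) {V : Y.Opens} (x : Γ(M, V)) :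
    Γ((r ⁻¹ᵁ U).toScheme, (r ⁻¹ᵁ U).ι ⁻¹ᵁ r ⁻¹ᵁ V) :=
  ((r ⁻¹ᵁ U).ι ≫ r).appLE (V ⊓ U) _ (preimage_le r V)
    (he.exists_coord inf_le_right (res M (inf_le_left : V ⊓ U ≤ V) x)).choose

lemma coordPull_eq (he : IsFrame e) {V : Y.Opens} (x : Γ(M, V)) (g : Γ(Y, V ⊓ U))
    (hg : res M (inf_le_left : V ⊓ U ≤ V) x = g • res M inf_le_right e) :
    coordPull r he x = ((r ⁻¹ᵁ U).ι ≫ r).appLE (V ⊓ U) _ (preimage_le r V) g := by
  unfold coordPull
  congr 1
  exact he.coord_unique inf_le_right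
    ((he.exists_coord inf_le_right (res M (inf_le_left : V ⊓ U ≤ V) x)).choose_spec.symm.trans hg)

lemma coordPull_add (he : IsFrame e) {V : Y.Opens} (x y : Γ(M, V)) :
    coordPull r he (x + y) = coordPull r he x + coordPull r he y := by
  obtain ⟨g, hg⟩ := he.exists_coord inf_le_right (res M (inf_le_left : V ⊓ U ≤ V) x)
  obtain ⟨g', hg'⟩ := he.exists_coord inf_le_right (res M (inf_le_left : V ⊓ U ≤ V) y)
  rw [coordPull_eq r he x g hg, coordPull_eq r he y g' hg',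
    coordPull_eq r he (x + y) (g + g') (by rw [map_add, hg, hg', add_smul]), map_add]

lemma coordPull_res (he : IsFrame e) {V W : Y.Opens} (hWV : W ≤ V) (x : Γ(M, V)) :
    coordPull r he (res M hWV x) =
      resR ((r ⁻¹ᵁ U).ι.preimage_mono (r.preimage_mono hWV)) (coordPull r he x) := by
  obtain ⟨g, hg⟩ := he.exists_coord inf_le_right (res M (inf_le_left : V ⊓ U ≤ V) x)
  have h : W ⊓ U ≤ V ⊓ U := inf_le_inf_right _ hWV
  rw [coordPull_eq r he x g hg, coordPull_eq r he (res M hWV x) (resR h g) (by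
    rw [res_res]
    have := congrArg (res M h) hg
    rw [res_smul, res_res, res_res] at this
    exact this)]
  refine (ConcreteCategory.congr_hom (Scheme.Hom.map_appLE ((r ⁻¹ᵁ U).ι ≫ r)
    (preimage_le r _) (homOfLE h).op) g).trans ?_
  exact (ConcreteCategory.congr_hom (Scheme.Hom.appLE_map ((r ⁻¹ᵁ U).ι ≫ r) (preimage_le r _)
    (homOfLE _).op) g).symm

lemma coordPull_smul (he : IsFrame e) {V : Y.Opens} (c : Γ(Y, V)) (x : Γ(M, V)) :
    coordPull r he (c • x) = (show Γ((r ⁻¹ᵁ U).toScheme, (r ⁻¹ᵁ U).ι ⁻¹ᵁ r ⁻¹ᵁ V) from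
      ((r ⁻¹ᵁ U).ι ≫ r).app V c) * coordPull r he x := by
  obtain ⟨g, hg⟩ := he.exists_coord inf_le_right (res M (inf_le_left : V ⊓ U ≤ V) x)
  have hs : res M (inf_le_left : V ⊓ U ≤ V) (c • x) =
      (resR inf_le_left c * g) • res M inf_le_right e := by rw [res_smul, hg, mul_smul]
  rw [coordPull_eq r he x g hg, coordPull_eq r he _ _ hs, map_mul]
  congr 1
  rw [Scheme.Hom.app_eq_appLE]
  exact ConcreteCategory.congr_hom (Scheme.Hom.map_appLE ((r ⁻¹ᵁ U).ι ≫ r)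
    (preimage_le r _) (homOfLE (inf_le_left : V ⊓ U ≤ V)).op) c

/-- The comparison, adjointly. -/
noncomputable def pullTriv (he : IsFrame e) : M ⟶ pushUnit r U where
  val := PresheafOfModules.homMk
    { app := fun V => AddCommGrpCat.ofHom (AddMonoidHom.mk' (fun x : Γ(M, unop V) => coordPull r he x)
        (coordPull_add r he))
      naturality := fun V W i => by
        ext x
        exact coordPull_res r he i.unop.le x }
    fun V c x => coordPull_smul r he c x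

lemma pullTriv_app (he : IsFrame e) {V : Y.Opens} (x : Γ(M, V)) :
    (show Γ((r ⁻¹ᵁ U).toScheme, (r ⁻¹ᵁ U).ι ⁻¹ᵁ r ⁻¹ᵁ V) from (pullTriv r he).app V x) =
      coordPull r he x := rfl

/-- The restriction of the inverse image. -/
noncomputable abbrev pulledRes (M : Y.Modules) (U : Y.Opens) : (r ⁻¹ᵁ U).toScheme.Modules :=
  ((Scheme.Modules.pullback r).obj M).restrict (r ⁻¹ᵁ U).ι

/-- The pulled back frame as a family of sections. -/
noncomputable def pullSections (e : Γ(M, U)) : SheafOfModules.sections (pulledRes r M U) :=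
  ⟨fun V => (show Γ(pulledRes r M U, unop V) from
      res ((Scheme.Modules.pullback r).obj M) ((r ⁻¹ᵁ U).ι_image_le (unop V)) (pullElt r e)),
    fun {V W} i => (res_res (M := (Scheme.Modules.pullback r).obj M) ((r ⁻¹ᵁ U).ι_image_le (unop V))
      ((r ⁻¹ᵁ U).ι.image_mono i.unop.le) (pullElt r e) :)⟩

/-- Multiplication by the pulled back frame. -/
noncomputable def pullMul (e : Γ(M, U)) : Coh.structureModule (r ⁻¹ᵁ U).toScheme ⟶ pulledRes r M U :=
  (SheafOfModules.unitHomEquiv _).symm (pullSections r e)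

lemma pullMul_app (e : Γ(M, U)) (V : (r ⁻¹ᵁ U).toScheme.Opens)
    (c : Γ((r ⁻¹ᵁ U).toScheme, V)) :
    (show Γ((Scheme.Modules.pullback r).obj M, (r ⁻¹ᵁ U).ι ''ᵁ V) from (pullMul r e).app V c) =
      ((r ⁻¹ᵁ U).ι.appIso V).inv.hom c •
        res ((Scheme.Modules.pullback r).obj M) ((r ⁻¹ᵁ U).ι_image_le V) (pullElt r e) :=
  rfl

/-- The composite adjunction. -/
noncomputable abbrev resPullAdj (U : Y.Opens) :=
  (Scheme.Modules.pullbackPushforwardAdjunction r).comp (Scheme.Modules.restrictAdjunction (r ⁻¹ᵁ U).ι)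

lemma resPullAdj_app {Q : (r ⁻¹ᵁ U).toScheme.Modules} (φ : pulledRes r M U ⟶ Q) (V : Y.Opens)
    (x : Γ(M, V)) :
    (show Γ(Q, (r ⁻¹ᵁ U).ι ⁻¹ᵁ r ⁻¹ᵁ V) from ((resPullAdj r U).homEquiv M Q φ).app V x) =
      φ.app _ (res ((Scheme.Modules.pullback r).obj M)
        ((r ⁻¹ᵁ U).ι.image_preimage_le (r ⁻¹ᵁ V))
        (((Scheme.Modules.pullbackPushforwardAdjunction r).unit.app M).app V x)) :=
  rfl

lemma isIso_pullMul (he : IsFrame e) : IsIso (pullMul r e) := by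
  let δ : pulledRes r M U ⟶ Coh.structureModule (r ⁻¹ᵁ U).toScheme :=
    ((resPullAdj r U).homEquiv _ _).symm (pullTriv r he)
  have hδ : (resPullAdj r U).homEquiv _ _ δ = pullTriv r he := Equiv.apply_symm_apply _ _
  have h1 : pullMul r e ≫ δ = 𝟙 _ := by
    refine hom_ext_of_frames (M := Coh.structureModule (r ⁻¹ᵁ U).toScheme)
      (fun _ : Unit => (⊤ : (r ⁻¹ᵁ U).toScheme.Opens)) (fun z => ⟨(), trivial⟩)
      (fun _ => (1 : Γ((r ⁻¹ᵁ U).toScheme, ⊤))) (fun _ V hV => ?_) fun _ => ?_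
    · refine (Function.bijective_id.comp ?_ : _)
      have hfun : (fun c : Γ((r ⁻¹ᵁ U).toScheme, V) =>
          c • res (Coh.structureModule (r ⁻¹ᵁ U).toScheme) hV (1 : Γ((r ⁻¹ᵁ U).toScheme, ⊤))) = id := by
        funext c
        show c * resR hV 1 = c
        rw [map_one, mul_one]
      rw [hfun]
      exact Function.bijective_id
    · let W' : (r ⁻¹ᵁ U).toScheme.Opens := (r ⁻¹ᵁ U).ι ⁻¹ᵁ r ⁻¹ᵁ U
      have hW : (⊤ : (r ⁻¹ᵁ U).toScheme.Opens) ≤ W' := fun z _ => z.2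
      have hb := resPullAdj_app r δ U e
      rw [hδ] at hb
      have hc : coordPull r he e = 1 := by
        rw [coordPull_eq r he e 1 (by rw [one_smul])]
        exact map_one _
      show δ.app ⊤ ((pullMul r e).app ⊤ (1 : Γ((r ⁻¹ᵁ U).toScheme, ⊤))) = (1 : Γ((r ⁻¹ᵁ U).toScheme, ⊤))
      have h3 : resR hW (coordPull r he e) = 1 := by rw [hc, map_one]
      have h2 := (app_res (M := pulledRes r M U) δ hW
        (show Γ(pulledRes r M U, (r ⁻¹ᵁ U).ι ⁻¹ᵁ r ⁻¹ᵁ U) from res ((Scheme.Modules.pullback r).obj M)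
          ((r ⁻¹ᵁ U).ι.image_preimage_le (r ⁻¹ᵁ U)) (pullElt r e))).trans
        ((congrArg (res (Coh.structureModule (r ⁻¹ᵁ U).toScheme) hW)
          (hb.symm.trans (pullTriv_app r he e))).trans h3)
      refine Eq.trans ?_ h2
      refine congrArg (δ.app ⊤) ?_
      refine (pullMul_app r e ⊤ 1).trans ?_
      rw [map_one, one_smul]
      exact (res_res (M := (Scheme.Modules.pullback r).obj M) ((r ⁻¹ᵁ U).ι.image_preimage_le (r ⁻¹ᵁ U))
        ((r ⁻¹ᵁ U).ι.image_mono hW) (pullElt r e)).symm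
  have h2 : δ ≫ pullMul r e = 𝟙 _ := by
    apply ((resPullAdj r U).homEquiv _ _).injective
    rw [Adjunction.homEquiv_naturality_right, hδ]
    refine Scheme.Modules.hom_ext _ _ fun V => ?_
    ext x
    obtain ⟨g, hg⟩ := he.exists_coord inf_le_right (res M (inf_le_left : V ⊓ U ≤ V) x)
    have hr := resPullAdj_app r (𝟙 (pulledRes r M U)) V x
    refine Eq.trans ?_ hr.symm
    show (show Γ((Scheme.Modules.pullback r).obj M, _) from
      (pullMul r e).app ((r ⁻¹ᵁ U).ι ⁻¹ᵁ r ⁻¹ᵁ V) (coordPull r he x)) = _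
    rw [pullMul_app, coordPull_eq r he x g hg]
    let N := (r ⁻¹ᵁ U).ι ''ᵁ ((r ⁻¹ᵁ U).ι ⁻¹ᵁ r ⁻¹ᵁ V)
    have hN : N ≤ r ⁻¹ᵁ (V ⊓ U) := by
      rintro z ⟨w, hw, rfl⟩
      exact ⟨hw, w.2⟩
    let P := (Scheme.Modules.pullback r).obj M
    let η : ∀ (V₁ : Y.Opens) (_ : Γ(M, V₁)), Γ(P, r ⁻¹ᵁ V₁) := fun V₁ y =>
      ((Scheme.Modules.pullbackPushforwardAdjunction r).unit.app M).app V₁ y
    have ηres : ∀ {V₁ W₁ : Y.Opens} (h : W₁ ≤ V₁) (y : Γ(M, V₁)),
        η W₁ (res M h y) = res P (r.preimage_mono h) (η V₁ y) := fun h y =>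
      app_res ((Scheme.Modules.pullbackPushforwardAdjunction r).unit.app M) h y
    have ηsmul : ∀ {V₁ : Y.Opens} (c : Γ(Y, V₁)) (y : Γ(M, V₁)),
        η V₁ (c • y) = r.app V₁ c • η V₁ y := fun c y =>
      Scheme.Modules.Hom.app_smul ((Scheme.Modules.pullbackPushforwardAdjunction r).unit.app M) c y
    have hu := congrArg (fun t => res P hN (η (V ⊓ U) t)) hg
    simp only [ηsmul, ηres, res_res, res_smul] at hu
    have hL : res P (hN.trans (r.preimage_mono inf_le_left)) (η V x) =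
        resR hN (r.app (V ⊓ U) g) • res P (hN.trans (r.preimage_mono inf_le_right)) (pullElt r e) := hu
    refine Eq.trans ?_ hL.symm
    congr 1
    rw [Scheme.Opens.ι_appIso, Scheme.Hom.comp_appLE]
    exact ConcreteCategory.congr_hom (Scheme.Opens.ι_appLE (r ⁻¹ᵁ U) (r ⁻¹ᵁ (V ⊓ U))
      ((r ⁻¹ᵁ U).ι ⁻¹ᵁ r ⁻¹ᵁ V) _) (r.app (V ⊓ U) g)
  exact ⟨δ, h1, h2⟩

/-- The inverse image of a frame is a frame. -/
lemma isFrame_pullElt (he : IsFrame e) : IsFrame (pullElt r e) := fun V hV => by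
  haveI := isIso_pullMul r he
  obtain ⟨V', rfl⟩ : ∃ V', (r ⁻¹ᵁ U).ι ''ᵁ V' = V := ⟨(r ⁻¹ᵁ U).ι ⁻¹ᵁ V, by
    rw [Scheme.Hom.image_preimage_eq_opensRange_inf, Scheme.Opens.opensRange_ι]
    exact inf_eq_right.mpr hV⟩
  have hb : Function.Bijective ((pullMul r e).app V') :=
    (ConcreteCategory.isIso_iff_bijective _).1 (Scheme.Modules.Hom.isIso_iff_isIso_app.1 inferInstance V')
  have hiso : Function.Bijective ((r ⁻¹ᵁ U).ι.appIso V').hom :=
    (ConcreteCategory.isIso_iff_bijective _).1 inferInstance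
  have key : (fun c : Γ(X, (r ⁻¹ᵁ U).ι ''ᵁ V') => (show Γ(pulledRes r M U, V') from
      c • res ((Scheme.Modules.pullback r).obj M) hV (pullElt r e))) =
      ((pullMul r e).app V') ∘ ((r ⁻¹ᵁ U).ι.appIso V').hom := by
    funext c
    show c • _ = ((r ⁻¹ᵁ U).ι.appIso V').inv.hom (((r ⁻¹ᵁ U).ι.appIso V').hom c) •
      res ((Scheme.Modules.pullback r).obj M) ((r ⁻¹ᵁ U).ι_image_le V') (pullElt r e)
    rw [Iso.hom_inv_id_apply]
  exact (congrArg Function.Bijective key).mpr (hb.comp hiso)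

end Groth.Agent.InvX
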