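import Groth.Agent.InvX.GenLocus
import Groth.Agent.InvX.Pullback

/-!
# The generating locus of a pulled back section
-/

universe u

open CategoryTheory AlgebraicGeometry TopologicalSpace

set_option backward.isDefEq.respectTransparency false
set_option backward.isDefEq.respectTransparency.types false

namespace Groth.Agent.InvX

open Groth.Agent

variable {X Y : Scheme.{u}} {M N : X.Modules}

theorem IsFrame.map_iso (e : M ≅ N) {U : X.Opens} {a : Γ(M, U)} (ha : IsFrame a) :
    IsFrame (e.hom.app U a) := fun V h => by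
  have key : (fun r : Γ(X, V) => r • AModX.res N h (e.hom.app U a)) =
      (e.hom.app V) ∘ fun r : Γ(X, V) => r • AModX.res M h a := funext fun r => by
    rw [← AModX.app_res]
    exact (Scheme.Modules.Hom.app_smul _ _ _).symm
  rw [key]
  exact ((ConcreteCategory.isIso_iff_bijective _).1
    (Scheme.Modules.Hom.isIso_iff_isIso_app.1 inferInstance V)).comp (ha V h)

variable (u : Y ⟶ X)

lemma pullElt_smul {U : X.Opens} (g : Γ(X, U)) (a : Γ(M, U)) :
    pullElt u (g • a) = u.app U g • pullElt u a :=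
  Scheme.Modules.Hom.app_smul ((Scheme.Modules.pullbackPushforwardAdjunction u).unit.app M) g a

lemma map_pullElt (φ : M ⟶ N) {U : X.Opens} (a : Γ(M, U)) :
    ((Scheme.Modules.pullback u).map φ).app (u ⁻¹ᵁ U) (pullElt u a) = pullElt u (φ.app U a) :=
  (ConcreteCategory.congr_hom (congrArg (fun ψ => Scheme.Modules.Hom.app ψ U)
    ((Scheme.Modules.pullbackPushforwardAdjunction u).unit.naturality φ)) a).symm

lemma res_pullElt {U V : X.Opens} (h : V ≤ U) (a : Γ(M, U)) :
    AModX.res _ (u.preimage_mono h) (pullElt u a) = pullElt u (AModX.res M h a) :=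
  (AModX.app_res ((Scheme.Modules.pullbackPushforwardAdjunction u).unit.app M) h a).symm

/-- The generating locus of a pulled back section is the preimage. -/
theorem genLocus_pullback (hM : PicF.IsInvertible M) (s : Coh.structureModule X ⟶ M)
    (e : Coh.structureModule Y ≅ (Scheme.Modules.pullback u).obj (Coh.structureModule X)) :
    CohB1.genLocus ((Scheme.Modules.pullback u).obj M) (e.hom ≫ (Scheme.Modules.pullback u).map s) =
      u ⁻¹ᵁ CohB1.genLocus M s := by
  let p : Γ((Scheme.Modules.pullback u).obj (Coh.structureModule X), ⊤) :=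
    pullElt u (U := ⊤) (show Γ(Coh.structureModule X, ⊤) from (1 : Γ(X, ⊤)))
  have hp : IsFrame p := isFrame_pullElt u (isFrame_one' X)
  have hw : IsFrame (e.hom.app ⊤ (show Γ(Coh.structureModule Y, ⊤) from (1 : Γ(Y, ⊤)))) :=
    (isFrame_one' Y).map_iso e
  obtain ⟨c, hc⟩ := hp.exists_coord le_rfl (e.hom.app ⊤ (show Γ(Coh.structureModule Y, ⊤) from (1 : Γ(Y, ⊤))))
  obtain ⟨d, hd⟩ := hw.exists_coord le_rfl p
  rw [AModX.res_self] at hc hd
  have hcu : IsUnit c := IsUnit.of_mul_eq_one d (hp.coord_unique le_rfl (by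
    rw [one_smul, AModX.res_self, mul_comm, mul_smul, ← hc, ← hd]))
  have hone : one (e.hom ≫ (Scheme.Modules.pullback u).map s) = c • (show Γ((Scheme.Modules.pullback u).obj M, ⊤) from pullElt u (U := ⊤) (one s)) := by
    show ((Scheme.Modules.pullback u).map s).app ⊤ (e.hom.app ⊤ (show Γ(Coh.structureModule Y, ⊤) from (1 : Γ(Y, ⊤)))) = _
    rw [hc, Scheme.Modules.Hom.app_smul]
    exact congrArg (c • ·) (map_pullElt u s (U := ⊤) _)
  refine Opens.ext (Set.ext fun y => ?_)
  obtain ⟨U, hyU, ε, hε⟩ := exists_frame hM (u y)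
  obtain ⟨g, hg⟩ := hε.exists_coord le_rfl (AModX.res M (le_top : U ≤ ⊤) (one s))
  rw [AModX.res_self] at hg
  have h' : AModX.res _ (le_top : u ⁻¹ᵁ U ≤ ⊤) (one (e.hom ≫ (Scheme.Modules.pullback u).map s)) =
      (AModX.resR (le_top : u ⁻¹ᵁ U ≤ ⊤) c * u.app U g) • pullElt u ε := by
    rw [hone, AModX.res_smul, mul_smul, ← pullElt_smul, ← hg]
    exact congrArg _ (res_pullElt u (le_top : U ≤ ⊤) _)
  have h1 := congrArg (fun V : Y.Opens => y ∈ V)
    (genLocus_inf (e.hom ≫ (Scheme.Modules.pullback u).map s) (isFrame_pullElt u hε) h')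
  have h2 := congrArg (fun V : X.Opens => u y ∈ V) (genLocus_inf s hε hg)
  have hbU : Y.basicOpen (AModX.resR (le_top : u ⁻¹ᵁ U ≤ ⊤) c) = u ⁻¹ᵁ U :=
    Y.basicOpen_of_isUnit (hcu.map _)
  rw [Scheme.basicOpen_mul, hbU, ← Scheme.preimage_basicOpen, ← Scheme.Hom.preimage_inf,
    inf_eq_right.2 (X.basicOpen_le g)] at h1
  have hyU' : y ∈ u ⁻¹ᵁ U := hyU
  simp only [Opens.mem_inf, hyU, hyU', and_true, eq_iff_iff] at h1 h2
  exact h1.trans h2.symm
where
  isFrame_one' (Z : Scheme.{u}) : IsFrame (M := Coh.structureModule Z) (U := ⊤)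
      (show Γ(Coh.structureModule Z, ⊤) from (1 : Γ(Z, ⊤))) := fun V h => by
    have : (fun r : Γ(Z, V) => r • AModX.res (Coh.structureModule Z) h
        (show Γ(Coh.structureModule Z, ⊤) from (1 : Γ(Z, ⊤)))) =
        fun r => (show Γ(Coh.structureModule Z, V) from r) := funext fun r => by
      show r * AModX.resR h 1 = r
      rw [map_one, mul_one]
    rw [this]
    exact Function.bijective_id

end Groth.Agent.InvX
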