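import Groth.Agent.InvX.Frame
import Groth.Prelude.Def_CohB1
import Mathlib.AlgebraicGeometry.Morphisms.Affine

/-!
# The generating locus of a section of an invertible module
-/

universe u

open CategoryTheory AlgebraicGeometry TopologicalSpace

set_option backward.isDefEq.respectTransparency false
set_option backward.isDefEq.respectTransparency.types false

namespace Groth.Agent.InvX

open Groth.Agent.AModX

variable {X : Scheme.{u}} {L : X.Modules}

/-- The global section given by a morphism from the structure sheaf. -/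
noncomputable def one (s : Coh.structureModule X ⟶ L) : Γ(L, ⊤) := s.app ⊤ (1 : Γ(X, ⊤))

lemma app_eq_smul (s : Coh.structureModule X ⟶ L) {W : X.Opens} (r : Γ(X, W)) :
    s.app W (show Γ(Coh.structureModule X, W) from r) = r • res L (le_top : W ≤ ⊤) (one s) := by
  have h1 : (show Γ(Coh.structureModule X, W) from (1 : Γ(X, W))) =
      res (Coh.structureModule X) (le_top : W ≤ ⊤) (show Γ(Coh.structureModule X, ⊤) from (1 : Γ(X, ⊤))) :=
    (map_one (resR (le_top : W ≤ ⊤))).symm
  have h2 : (show Γ(Coh.structureModule X, W) from r) =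
      r • (show Γ(Coh.structureModule X, W) from (1 : Γ(X, W))) := (mul_one r).symm
  refine (congrArg (s.app W) h2).trans ((Scheme.Modules.Hom.app_smul _ _ _).trans (congrArg (r • ·) ?_))
  exact (congrArg (s.app W) h1).trans (app_res s _ _)

theorem isIso_restrict_iff (s : Coh.structureModule X ⟶ L) (U : X.Opens) :
    IsIso ((Scheme.Modules.restrictFunctor U.ι).map s) ↔ IsFrame (res L (le_top : U ≤ ⊤) (one s)) := by
  rw [Scheme.Modules.Hom.isIso_iff_isIso_app]
  have key : ∀ W : X.Opens, (s.app W : _ → _) = fun r : Γ(X, W) => r • res L (le_top : W ≤ ⊤) (one s) :=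
    fun W => funext fun r => app_eq_smul s r
  constructor
  · intro h V hV
    obtain ⟨V', rfl⟩ : ∃ V', U.ι ''ᵁ V' = V := ⟨U.ι ⁻¹ᵁ V, by
      rw [Scheme.Hom.image_preimage_eq_opensRange_inf, Scheme.Opens.opensRange_ι]
      exact inf_eq_right.mpr hV⟩
    have hb : Function.Bijective (s.app (U.ι ''ᵁ V')) :=
      (ConcreteCategory.isIso_iff_bijective _).1 (h V')
    rw [key] at hb
    simp only [res_res]
    exact hb
  · intro h V'
    refine (ConcreteCategory.isIso_iff_bijective _).2 ?_
    show Function.Bijective (s.app (U.ι ''ᵁ V'))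
    have hb := h (U.ι ''ᵁ V') (U.ι_image_le V')
    simp only [res_res] at hb
    rw [key]
    exact hb

theorem le_genLocus (s : Coh.structureModule X ⟶ L) {U : X.Opens}
    (h : IsFrame (res L (le_top : U ≤ ⊤) (one s))) : U ≤ CohB1.genLocus L s :=
  le_sSup ((isIso_restrict_iff s U).2 h)

theorem mem_genLocus {s : Coh.structureModule X ⟶ L} {x : X} (hx : x ∈ CohB1.genLocus L s) :
    ∃ U : X.Opens, x ∈ U ∧ IsFrame (res L (le_top : U ≤ ⊤) (one s)) := by
  obtain ⟨U, hU, hxU⟩ := Opens.mem_sSup.1 hx
  exact ⟨U, hxU, (isIso_restrict_iff s U).1 hU⟩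

theorem genLocus_inf (s : Coh.structureModule X ⟶ L) {U : X.Opens} {e : Γ(L, U)} (he : IsFrame e)
    {g : Γ(X, U)} (hg : res L (le_top : U ≤ ⊤) (one s) = g • e) :
    CohB1.genLocus L s ⊓ U = X.basicOpen g := by
  refine le_antisymm (fun x hx => ?_) (le_inf (le_genLocus s ?_) (X.basicOpen_le g))
  · obtain ⟨W, hxW, hW⟩ := mem_genLocus hx.1
    obtain ⟨h, hh⟩ := hW.exists_coord (inf_le_left : W ⊓ U ≤ W) (res L inf_le_right e)
    rw [res_res] at hh
    have hg' : res L (le_top : W ⊓ U ≤ ⊤) (one s) = resR (inf_le_right : W ⊓ U ≤ U) g • res L inf_le_right e := by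
      have := congrArg (res L (inf_le_right : W ⊓ U ≤ U)) hg
      rwa [res_res, res_smul] at this
    have hu : h * resR (inf_le_right : W ⊓ U ≤ U) g = 1 := by
      refine he.coord_unique inf_le_right ?_
      rw [one_smul, mul_smul, ← hg', ← hh]
    have hmem : x ∈ X.basicOpen (resR (inf_le_right : W ⊓ U ≤ U) g) := by
      rw [X.basicOpen_of_isUnit (IsUnit.of_mul_eq_one_right h hu)]
      exact ⟨hxW, hx.2⟩
    rw [show resR (inf_le_right : W ⊓ U ≤ U) g = X.presheaf.map (homOfLE inf_le_right).op g from rfl,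
      Scheme.basicOpen_res] at hmem
    exact hmem.2
  · have := congrArg (res L (X.basicOpen_le g)) hg
    rw [res_res, res_smul] at this
    rw [this]
    exact (he.res _).isUnit_smul (isUnit_resR _ _ le_rfl)

/-- The generating locus of a section of an invertible module is affine over the ambient scheme. -/
theorem isAffineHom_genLocus_ι (hL : PicF.IsInvertible L) (s : Coh.structureModule X ⟶ L) :
    IsAffineHom (CohB1.genLocus L s).ι := by
  refine isAffineHom_of_forall_exists_isAffineOpen _ fun x => ?_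
  obtain ⟨U, hxU, e, he⟩ := exists_frame hL x
  obtain ⟨_, ⟨W, hW, rfl⟩, hxW, hle⟩ :=
    X.isBasis_affineOpens.exists_subset_of_mem_open (show x ∈ U from hxU) U.2
  obtain ⟨g, hg⟩ := (he.res (show W ≤ U from hle)).exists_coord le_rfl (res L (le_top : W ≤ ⊤) (one s))
  rw [res_self] at hg
  refine ⟨W, hxW, hW, ?_⟩
  apply ((CohB1.genLocus L s).ι.isAffineOpen_iff_of_isOpenImmersion).1
  rw [Scheme.Hom.image_preimage_eq_opensRange_inf, Scheme.Opens.opensRange_ι,
    genLocus_inf s (he.res (show W ≤ U from hle)) hg]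
  exact hW.basicOpen g

end Groth.Agent.InvX
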