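import Groth.Agent.InvX.GenLocus
import Groth.Agent.KFlatLib.Scheme.TensorStalk

/-!
# Tensor products of frames and of sections of invertible modules
-/

universe u

open CategoryTheory AlgebraicGeometry TopologicalSpace Opposite MonoidalCategory
open scoped TensorProduct

set_option backward.isDefEq.respectTransparency false
set_option backward.isDefEq.respectTransparency.types false
set_option linter.style.haveILetI false

namespace Groth.Agent.InvX

open Groth.Agent.AModX

variable {X : Scheme.{u}} {L M N : X.Modules}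

lemma germ_res' {U V : X.Opens} (h : V ≤ U) {x : X} (hx : x ∈ V) (s : Γ(M, U)) :
    M.presheaf.germ V x hx (AModX.res M h s) = M.presheaf.germ U x (h hx) s :=
  M.presheaf.germ_res_apply (homOfLE h) x hx s

lemma germ_resR' {U V : X.Opens} (h : V ≤ U) {x : X} (hx : x ∈ V) (s : Γ(X, U)) :
    X.presheaf.germ V x hx (resR h s) = X.presheaf.germ U x (h hx) s :=
  X.presheaf.germ_res_apply (homOfLE h) x hx s

theorem IsFrame.germ_bijective {U : X.Opens} {e : Γ(M, U)} (he : IsFrame e) {x : X} (hx : x ∈ U) :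
    Function.Bijective fun c : X.presheaf.stalk x => c • M.presheaf.germ U x hx e := by
  constructor
  · intro c c' h
    obtain ⟨W₁, h₁, a, rfl⟩ := X.presheaf.exists_germ_eq (x := x) c
    obtain ⟨W₂, h₂, b, rfl⟩ := X.presheaf.exists_germ_eq (x := x) c'
    let W := W₁ ⊓ W₂ ⊓ U
    have hxW : x ∈ W := ⟨⟨h₁, h₂⟩, hx⟩
    rw [← germ_resR' (inf_le_left.trans inf_le_left : W ≤ W₁) hxW a,
      ← germ_resR' (inf_le_left.trans inf_le_right : W ≤ W₂) hxW b] at h ⊢
    dsimp only at h
    rw [← germ_res' (inf_le_right : W ≤ U) hxW e, ← QCoh.germ_smul', ← QCoh.germ_smul'] at h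
    obtain ⟨W', hW', i, j, hij⟩ :=
      TopCat.Presheaf.germ_eq (C := AddCommGrpCat.{u}) M.presheaf x hxW hxW _ _ h
    change AModX.res M i.le _ = AModX.res M j.le _ at hij
    simp only [AModX.res_smul, AModX.res_res] at hij
    rw [← germ_resR' i.le hW', ← germ_resR' i.le hW']
    refine congrArg _ (he.coord_unique (i.le.trans inf_le_right) ?_)
    rw [← AModX.res_res (inf_le_right : W ≤ U) i.le e]
    exact hij
  · intro y
    obtain ⟨W₁, h₁, z, rfl⟩ := TopCat.Presheaf.exists_germ_eq M.presheaf (x := x) y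
    let W := W₁ ⊓ U
    have hxW : x ∈ W := ⟨h₁, hx⟩
    obtain ⟨r, hr⟩ := he.exists_coord (inf_le_right : W ≤ U) (AModX.res M inf_le_left z)
    refine ⟨X.presheaf.germ W x hxW r, ?_⟩
    show _ • M.presheaf.germ U x hx e = _
    rw [← germ_res' (inf_le_right : W ≤ U) hxW e, ← QCoh.germ_smul', ← hr]
    exact germ_res' inf_le_left hxW z

theorem isFrame_of_germ {U : X.Opens} {e : Γ(M, U)}
    (h : ∀ (x : X) (hx : x ∈ U), Function.Bijective fun c : X.presheaf.stalk x => c • M.presheaf.germ U x hx e) :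
    IsFrame e := by
  intro V hV
  have hinj : ∀ (V : X.Opens) (hV : V ≤ U) (r r' : Γ(X, V)),
      r • AModX.res M hV e = r' • AModX.res M hV e → r = r' := fun V hV r r' hr => by
    refine TopCat.Sheaf.eq_of_locally_eq' X.sheaf (fun _ : Unit => V) V (fun _ => 𝟙 V) (by simp) r r' fun _ => ?_
    refine TopCat.Presheaf.section_ext X.sheaf _ _ _ fun x hx => ?_
    apply (h x (hV hx)).1
    have h1 := congrArg (M.presheaf.germ V x hx) hr
    rw [QCoh.germ_smul', QCoh.germ_smul', germ_res'] at h1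
    show _ • _ = _ • _
    simp only [op_id, X.sheaf.obj.map_id]
    exact h1
  refine ⟨fun r r' hr => hinj V hV r r' hr, fun z => ?_⟩
  have hloc : ∀ p : V, ∃ (W : X.Opens) (hW : W ≤ V) (_ : p.1 ∈ W) (r : Γ(X, W)),
      AModX.res M hW z = r • AModX.res M (hW.trans hV) e := fun p => by
    obtain ⟨c, hc⟩ := (h p.1 (hV p.2)).2 (M.presheaf.germ V p.1 p.2 z)
    obtain ⟨W₁, h₁, a, rfl⟩ := X.presheaf.exists_germ_eq (x := p.1) c
    let W := W₁ ⊓ V
    have hxW : p.1 ∈ W := ⟨h₁, p.2⟩
    dsimp only at hc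
    rw [← germ_resR' (inf_le_left : W ≤ W₁) hxW a, ← germ_res' ((inf_le_right : W ≤ V).trans hV) hxW e,
      ← QCoh.germ_smul', ← germ_res' (inf_le_right : W ≤ V) hxW z] at hc
    obtain ⟨W', hW', i, j, hij⟩ :=
      TopCat.Presheaf.germ_eq (C := AddCommGrpCat.{u}) M.presheaf p.1 hxW hxW _ _ hc
    change AModX.res M i.le _ = AModX.res M j.le _ at hij
    simp only [AModX.res_smul, AModX.res_res] at hij
    refine ⟨W', j.le.trans inf_le_right, hW', resR i.le (resR (inf_le_left : W ≤ W₁) a), ?_⟩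
    rw [← AModX.res_res (inf_le_right : W ≤ V) j.le z,
      ← AModX.res_res ((inf_le_right : W ≤ V).trans hV) i.le e]
    exact hij.symm
  choose W hW hpW r hr using hloc
  obtain ⟨R, hR, -⟩ := TopCat.Sheaf.existsUnique_gluing' X.sheaf W V (fun p => homOfLE (hW p))
    (fun p hp => Opens.mem_iSup.2 ⟨⟨p, hp⟩, hpW ⟨p, hp⟩⟩) r fun p q => by
      apply hinj _ (inf_le_left.trans ((hW p).trans hV))
      have h1 := congrArg (AModX.res M (inf_le_left : W p ⊓ W q ≤ W p)) (hr p)
      have h2 := congrArg (AModX.res M (inf_le_right : W p ⊓ W q ≤ W q)) (hr q)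
      rw [AModX.res_res, AModX.res_smul, AModX.res_res] at h1 h2
      exact h1.symm.trans h2
  refine ⟨R, AModX.eq_of_locally _ _ fun p hp => ⟨W ⟨p, hp⟩, hW _, hpW _, ?_⟩⟩
  rw [AModX.res_smul, AModX.res_res, hr]
  exact congrArg (· • _) (hR ⟨p, hp⟩)

/-- The tensor of two sections. -/
noncomputable def tmul {U : X.Opens} (a : Γ(M, U)) (b : Γ(N, U)) : Γ(CohB1.tensorMod M N, U) :=
  (KFlatLib.unitShP (CohB1.toPMod M ⊗ CohB1.toPMod N)).app (op U) (KFlatLib.tm a b)

lemma res_tmul {U V : X.Opens} (h : V ≤ U) (a : Γ(M, U)) (b : Γ(N, U)) :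
    AModX.res (CohB1.tensorMod M N) h (tmul a b) = tmul (AModX.res M h a) (AModX.res N h b) :=
  (PresheafOfModules.naturality_apply (KFlatLib.unitShP (CohB1.toPMod M ⊗ CohB1.toPMod N))
    (homOfLE h).op (KFlatLib.tm a b)).symm.trans rfl

lemma tmul_smul_left {U : X.Opens} (r : Γ(X, U)) (a : Γ(M, U)) (b : Γ(N, U)) :
    tmul (r • a) b = r • tmul a b :=
  (congrArg _ (KFlatLib.tm_smul_left r a b)).trans (KFlatLib.app_sm _ r _)

lemma tmul_smul_right {U : X.Opens} (r : Γ(X, U)) (a : Γ(M, U)) (b : Γ(N, U)) :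
    tmul a (r • b) = r • tmul a b :=
  (congrArg _ ((KFlatLib.tm_smul r a b).symm.trans (KFlatLib.tm_smul_left r a b))).trans
    (KFlatLib.app_sm _ r _)

theorem isFrame_tmul {U : X.Opens} {a : Γ(M, U)} {b : Γ(N, U)} (ha : IsFrame a) (hb : IsFrame b) :
    IsFrame (tmul a b) := by
  refine isFrame_of_germ fun x hx => ?_
  let P := CohB1.toPMod M
  let Q := CohB1.toPMod N
  let ga : KFlatLib.stalkMod x P := KFlatLib.germP P U hx a
  let gb : KFlatLib.stalkMod x Q := KFlatLib.germP Q U hx b
  let ea := LinearEquiv.ofBijective (LinearMap.toSpanSingleton (X.presheaf.stalk x) (KFlatLib.stalkMod x P) ga)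
    (ha.germ_bijective hx)
  let eb := LinearEquiv.ofBijective (LinearMap.toSpanSingleton (X.presheaf.stalk x) (KFlatLib.stalkMod x Q) gb)
    (hb.germ_bijective hx)
  let T := ((TensorProduct.lid (X.presheaf.stalk x) (X.presheaf.stalk x)).symm.trans
    (TensorProduct.congr ea eb)).trans (KFlatLib.tensorStalkEquiv P Q)
  haveI hi := KFlatLib.isIso_stalk_unitShP (x := x) (P ⊗ Q)
  let u := ((KFlatLib.stalkP x).map (KFlatLib.unitShP (P ⊗ Q)))
  have hu : Function.Bijective u.hom := ConcreteCategory.bijective_of_isIso u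
  have key : ∀ c : X.presheaf.stalk x, u.hom (T c) =
      c • (show KFlatLib.stalkMod x (DCoh.toP.obj (DCoh.shP.obj (P ⊗ Q))) from
        KFlatLib.germP _ U hx (tmul a b)) := fun c => by
    have hT : T c = c • KFlatLib.germP (P ⊗ Q) U hx (KFlatLib.tm a b) := by
      show KFlatLib.tensorStalkEquiv P Q (TensorProduct.congr ea eb
        ((TensorProduct.lid (X.presheaf.stalk x) (X.presheaf.stalk x)).symm c)) = _
      rw [TensorProduct.lid_symm_apply, TensorProduct.congr_tmul]
      show KFlatLib.tensorStalkEquiv P Q (((1 : X.presheaf.stalk x) • ga) ⊗ₜ (c • gb)) = _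
      rw [one_smul, TensorProduct.tmul_smul, map_smul]
      exact congrArg (c • ·) (KFlatLib.ofTensor_germ U hx a b)
    rw [hT, map_smul]
    exact congrArg (c • ·) (KFlatLib.stalkModMap_germ _ U hx _)
  exact (funext key).symm ▸ hu.comp T.bijective

/-- A frame trivializes. -/
noncomputable def frameSections (U : X.Opens) (e : Γ(M, U)) : SheafOfModules.sections (M.restrict U.ι) :=
  ⟨fun V => AModX.res M (U.ι_image_le V.unop) e, fun {_ _} i =>
    AModX.res_res (U.ι_image_le _) (U.ι.image_mono (leOfHom i.unop)) e⟩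

theorem nonempty_iso_of_isFrame {U : X.Opens} {e : Γ(M, U)} (he : IsFrame e) :
    Nonempty (M.restrict U.ι ≅ Coh.structureModule U.toScheme) := by
  let φ : Coh.structureModule U.toScheme ⟶ M.restrict U.ι :=
    (SheafOfModules.unitHomEquiv _).symm (frameSections U e)
  haveI : IsIso φ := by
    refine Scheme.Modules.Hom.isIso_iff_isIso_app.2 fun V => (ConcreteCategory.isIso_iff_bijective _).2 ?_
    have h : (φ.app V : _ → _) = fun r => (show Γ(X, U.ι ''ᵁ V) from r) • AModX.res M (U.ι_image_le V) e := by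
      funext r
      refine Eq.trans (b := (U.ι.appIso V).inv.hom r • AModX.res M (U.ι_image_le V) e) rfl ?_
      rw [Scheme.Opens.ι_appIso]
      rfl
    rw [h]
    exact he _ _
  exact ⟨(asIso φ).symm⟩

theorem isInvertible_of_frames (h : ∀ x : X, ∃ (U : X.Opens) (_ : x ∈ U) (e : Γ(M, U)), IsFrame e) :
    PicF.IsInvertible M := fun x => by
  obtain ⟨U, hx, e, he⟩ := h x
  exact ⟨U, hx, nonempty_iso_of_isFrame he⟩

theorem exists_frame₂ (hM : PicF.IsInvertible M) (hN : PicF.IsInvertible N) (x : X) :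
    ∃ (U : X.Opens) (_ : x ∈ U) (e : Γ(M, U)) (f : Γ(N, U)), IsFrame e ∧ IsFrame f := by
  obtain ⟨U, hU, e, he⟩ := exists_frame hM x
  obtain ⟨V, hV, f, hf⟩ := exists_frame hN x
  exact ⟨U ⊓ V, ⟨hU, hV⟩, _, _, he.res inf_le_left, hf.res inf_le_right⟩

theorem isInvertible_tensorMod (hM : PicF.IsInvertible M) (hN : PicF.IsInvertible N) :
    PicF.IsInvertible (CohB1.tensorMod M N) :=
  isInvertible_of_frames fun x => by
    obtain ⟨U, hx, e, f, he, hf⟩ := exists_frame₂ hM hN x
    exact ⟨U, hx, tmul e f, isFrame_tmul he hf⟩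

theorem isFrame_one (U : X.Opens) : IsFrame (M := Coh.structureModule X) (U := U)
    (show Γ(Coh.structureModule X, U) from (1 : Γ(X, U))) := fun V h => by
  have : (fun r : Γ(X, V) => r • AModX.res (Coh.structureModule X) h
      (show Γ(Coh.structureModule X, U) from (1 : Γ(X, U)))) =
      fun r => (show Γ(Coh.structureModule X, V) from r) := funext fun r => by
    show r * resR h 1 = r
    rw [map_one, mul_one]
  rw [this]
  exact Function.bijective_id

theorem isInvertible_structureModule : PicF.IsInvertible (Coh.structureModule X) :=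
  isInvertible_of_frames fun _ => ⟨⊤, trivial, _, isFrame_one ⊤⟩

theorem isInvertible_tensorPow (hL : PicF.IsInvertible L) :
    ∀ n, PicF.IsInvertible (CohB1.tensorPow L n)
  | 0 => isInvertible_structureModule
  | n + 1 => isInvertible_tensorMod (isInvertible_tensorPow hL n) hL

/-- The morphism given by a global section. -/
noncomputable def ofSect (t : Γ(M, ⊤)) : Coh.structureModule X ⟶ M :=
  (SheafOfModules.unitHomEquiv _).symm
    ⟨fun V => AModX.res M (le_top : V.unop ≤ ⊤) t, fun {_ _} _ => AModX.res_res _ _ _⟩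

lemma one_ofSect (t : Γ(M, ⊤)) : one (ofSect t) = t :=
  (Eq.trans (b := (1 : Γ(X, ⊤)) • AModX.res M (le_top : (⊤ : X.Opens) ≤ ⊤) t) rfl (one_smul _ _)).trans
    (AModX.res_self t)

/-- The tensor of two morphisms from the structure sheaf. -/
noncomputable def mulHom (s : Coh.structureModule X ⟶ M) (t : Coh.structureModule X ⟶ N) :
    Coh.structureModule X ⟶ CohB1.tensorMod M N :=
  ofSect (tmul (one s) (one t))

theorem genLocus_mulHom (hM : PicF.IsInvertible M) (hN : PicF.IsInvertible N)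
    (s : Coh.structureModule X ⟶ M) (t : Coh.structureModule X ⟶ N) :
    CohB1.genLocus (CohB1.tensorMod M N) (mulHom s t) = CohB1.genLocus M s ⊓ CohB1.genLocus N t := by
  refine Opens.ext (Set.ext fun x => ?_)
  obtain ⟨U, hx, e, f, he, hf⟩ := exists_frame₂ hM hN x
  obtain ⟨g, hg⟩ := he.exists_coord le_rfl (AModX.res M (le_top : U ≤ ⊤) (one s))
  obtain ⟨h, hh⟩ := hf.exists_coord le_rfl (AModX.res N (le_top : U ≤ ⊤) (one t))
  rw [AModX.res_self] at hg hh
  have hgh : AModX.res (CohB1.tensorMod M N) (le_top : U ≤ ⊤) (one (mulHom s t)) = (g * h) • tmul e f := by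
    rw [mulHom, one_ofSect, res_tmul, hg, hh, tmul_smul_left, tmul_smul_right, mul_smul]
  have h1 := congrArg (fun V : X.Opens => x ∈ V) (genLocus_inf (mulHom s t) (isFrame_tmul he hf) hgh)
  have h2 := congrArg (fun V : X.Opens => x ∈ V) (genLocus_inf s he hg)
  have h3 := congrArg (fun V : X.Opens => x ∈ V) (genLocus_inf t hf hh)
  rw [Scheme.basicOpen_mul] at h1
  simp only [Opens.mem_inf, hx, and_true, eq_iff_iff] at h1 h2 h3
  exact h1.trans (and_congr h2.symm h3.symm)

/-- Powers of a section. -/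
noncomputable def powHom (s : Coh.structureModule X ⟶ L) :
    ∀ n, Coh.structureModule X ⟶ CohB1.tensorPow L n
  | 0 => 𝟙 _
  | n + 1 => mulHom (powHom s n) s

theorem genLocus_powHom (hL : PicF.IsInvertible L) (s : Coh.structureModule X ⟶ L) :
    ∀ n, CohB1.genLocus (CohB1.tensorPow L (n + 1)) (powHom s (n + 1)) = CohB1.genLocus L s
  | 0 => by
    refine (genLocus_mulHom (isInvertible_tensorPow hL 0) hL (powHom s 0) s).trans ?_
    have : (⊤ : X.Opens) ≤ CohB1.genLocus _ (powHom s 0) := le_genLocus _ (by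
      rw [AModX.res_self]
      exact isFrame_one ⊤)
    rw [top_le_iff.1 this, top_inf_eq]
  | n + 1 => by
    refine (genLocus_mulHom (isInvertible_tensorPow hL (n + 1)) hL (powHom s (n + 1)) s).trans ?_
    rw [genLocus_powHom hL s n, inf_idem]

/-- An isomorphism does not change the generating locus. -/
theorem genLocus_comp_iso (s : Coh.structureModule X ⟶ M) (e : M ≅ N) :
    CohB1.genLocus N (s ≫ e.hom) = CohB1.genLocus M s := by
  unfold CohB1.genLocus
  congr 1
  ext U
  simp only [Set.mem_ofPred_eq, Functor.map_comp]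
  exact ⟨fun h => IsIso.of_isIso_comp_right _ ((Scheme.Modules.restrictFunctor U.ι).map e.hom),
    fun h => inferInstance⟩

end Groth.Agent.InvX
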