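import Groth.Agent.AModX.Res
import Groth.Agent.QCoh.Stalk
import Groth.Prelude.Def_Pic
import Groth.Prelude.Def_FlatMod2

/-!
# Local frames of modules of rank one
-/

universe u

open CategoryTheory AlgebraicGeometry TopologicalSpace Opposite

namespace Groth.Agent.InvX

open Groth.Agent.AModX

variable {X : Scheme.{u}} {M N : X.Modules}

/-- A section freely generating the module over every smaller open. -/
def IsFrame {U : X.Opens} (e : Γ(M, U)) : Prop :=
  ∀ (V : X.Opens) (h : V ≤ U), Function.Bijective (fun r : Γ(X, V) => r • res M h e)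

lemma IsFrame.exists_coord {U : X.Opens} {e : Γ(M, U)} (he : IsFrame e) {V : X.Opens} (h : V ≤ U)
    (x : Γ(M, V)) : ∃ r : Γ(X, V), x = r • res M h e :=
  ((he V h).2 x).imp fun _ hr => hr.symm

lemma IsFrame.coord_unique {U : X.Opens} {e : Γ(M, U)} (he : IsFrame e) {V : X.Opens} (h : V ≤ U)
    {r r' : Γ(X, V)} (hr : r • res M h e = r' • res M h e) : r = r' :=
  (he V h).1 hr

lemma IsFrame.res {U W : X.Opens} {e : Γ(M, U)} (he : IsFrame e) (h : W ≤ U) :
    IsFrame (AModX.res M h e) := fun V h' => by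
  simp only [res_res]
  exact he V (h'.trans h)

lemma IsFrame.isUnit_smul {U : X.Opens} {e : Γ(M, U)} (he : IsFrame e) {g : Γ(X, U)}
    (hg : IsUnit g) : IsFrame (g • e) := fun V h => by
  have : IsUnit (resR h g) := hg.map _
  obtain ⟨w, hw⟩ := this
  simp only [res_smul, ← mul_smul, ← hw]
  exact (he V h).comp (Units.mulRight w).bijective

/-- Morphisms agreeing on a covering family of frames are equal. -/
lemma hom_ext_of_frames {ι : Type*} (U : ι → X.Opens) (hcov : ∀ x, ∃ a, x ∈ U a)
    (e : ∀ a, Γ(M, U a)) (he : ∀ a, IsFrame (e a)) {φ ψ : M ⟶ N}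
    (h : ∀ a, φ.app (U a) (e a) = ψ.app (U a) (e a)) : φ = ψ := by
  refine Scheme.Modules.hom_ext _ _ fun V => ?_
  ext x
  refine eq_of_locally _ _ fun p hp => ?_
  obtain ⟨a, ha⟩ := hcov p
  refine ⟨V ⊓ U a, inf_le_left, ⟨hp, ha⟩, ?_⟩
  obtain ⟨r, hr⟩ := (he a).exists_coord inf_le_right (res M inf_le_left x)
  rw [← app_res, ← app_res, hr, Scheme.Modules.Hom.app_smul, Scheme.Modules.Hom.app_smul,
    app_res, app_res, h a]

variable {ι : Type u} (U : ι → X.Opens) (e : ∀ a, Γ(M, U a)) (n : ∀ a, Γ(N, U a))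

/-- `t` is the value at `x` of the morphism sending the frames to `n`. -/
def Rel {V : X.Opens} (x : Γ(M, V)) (t : Γ(N, V)) : Prop :=
  ∀ (a : ι) (W : X.Opens) (h : W ≤ V) (h' : W ≤ U a) (g : Γ(X, W)),
    res M h x = g • res M h' (e a) → res N h t = g • res N h' (n a)

variable {U e n}

lemma rel_unique (hcov : ∀ x, ∃ a, x ∈ U a) (he : ∀ a, IsFrame (e a)) {V : X.Opens} {x : Γ(M, V)}
    {t t' : Γ(N, V)} (ht : Rel U e n x t) (ht' : Rel U e n x t') : t = t' := by
  refine eq_of_locally _ _ fun p hp => ?_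
  obtain ⟨a, ha⟩ := hcov p
  obtain ⟨g, hg⟩ := (he a).exists_coord inf_le_right (res M (inf_le_left : V ⊓ U a ≤ V) x)
  exact ⟨V ⊓ U a, inf_le_left, ⟨hp, ha⟩,
    (ht a _ inf_le_left inf_le_right g hg).trans (ht' a _ inf_le_left inf_le_right g hg).symm⟩

lemma rel_res {V V' : X.Opens} (i : V' ≤ V) {x : Γ(M, V)} {t : Γ(N, V)} (ht : Rel U e n x t) :
    Rel U e n (res M i x) (res N i t) := fun a W h h' g hg => by
  rw [res_res] at hg ⊢
  exact ht a W _ h' g hg

lemma rel_add (he : ∀ a, IsFrame (e a)) {V : X.Opens} {x y : Γ(M, V)} {t s : Γ(N, V)}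
    (ht : Rel U e n x t) (hs : Rel U e n y s) : Rel U e n (x + y) (t + s) := fun a W h h' g hg => by
  obtain ⟨g1, h1⟩ := (he a).exists_coord h' (res M h x)
  obtain ⟨g2, h2⟩ := (he a).exists_coord h' (res M h y)
  have : g = g1 + g2 := (he a).coord_unique h' (by rw [← hg, map_add, h1, h2, add_smul])
  rw [map_add, ht a W h h' g1 h1, hs a W h h' g2 h2, this, add_smul]

lemma rel_smul (he : ∀ a, IsFrame (e a)) {V : X.Opens} (r : Γ(X, V)) {x : Γ(M, V)} {t : Γ(N, V)}
    (ht : Rel U e n x t) : Rel U e n (r • x) (r • t) := fun a W h h' g hg => by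
  obtain ⟨g1, h1⟩ := (he a).exists_coord h' (res M h x)
  have : g = resR h r * g1 := (he a).coord_unique h' (by rw [← hg, res_smul, h1, mul_smul])
  rw [res_smul, ht a W h h' g1 h1, this, mul_smul]

variable (hcov : ∀ x, ∃ a, x ∈ U a) (he : ∀ a, IsFrame (e a))
  (hc : ∀ (a b : ι) (W : X.Opens) (ha : W ≤ U a) (hb : W ≤ U b) (g : Γ(X, W)),
    res M hb (e b) = g • res M ha (e a) → res N hb (n b) = g • res N ha (n a))

include hcov he hc in
lemma exists_rel {V : X.Opens} (x : Γ(M, V)) : ∃ t : Γ(N, V), Rel U e n x t := by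
  have hg := fun a => (he a).exists_coord inf_le_right (res M (inf_le_left : V ⊓ U a ≤ V) x)
  choose g hg using hg
  obtain ⟨t, ht, -⟩ := existsUnique_glue (M := N) (V := V) (fun a => V ⊓ U a) (fun _ => inf_le_left)
    (fun p hp => (hcov p).imp fun a ha => ⟨hp, ha⟩) (fun a => g a • res N inf_le_right (n a))
    fun a b => by
      let W := (V ⊓ U a) ⊓ (V ⊓ U b)
      have hWa : W ≤ U a := inf_le_left.trans inf_le_right
      have hWb : W ≤ U b := inf_le_right.trans inf_le_right
      obtain ⟨k, hk⟩ := (he a).exists_coord hWa (res M hWb (e b))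
      rw [res_smul, res_smul, res_res, res_res, hc a b W hWa hWb k hk, ← mul_smul]
      congr 1
      refine (he a).coord_unique hWa ?_
      have h1 := congrArg (res M (inf_le_left : W ≤ V ⊓ U a)) (hg a)
      have h2 := congrArg (res M (inf_le_right : W ≤ V ⊓ U b)) (hg b)
      rw [res_smul, res_res, res_res] at h1 h2
      rw [← h1, mul_smul, ← hk, ← h2]
  refine ⟨t, fun a W h h' k hk => ?_⟩
  have hW : W ≤ V ⊓ U a := le_inf h h'
  have h1 : k = resR hW (g a) := (he a).coord_unique h' (by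
    rw [← hk]
    have := congrArg (res M hW) (hg a)
    rw [res_smul, res_res, res_res] at this
    exact this)
  have h2 := congrArg (res N hW) (ht a)
  rw [res_smul, res_res, res_res, ← h1] at h2
  exact h2

/-- The morphism sending each frame to the given section. -/
noncomputable def ofFrames : M ⟶ N where
  val := PresheafOfModules.homMk
    { app := fun V => AddCommGrpCat.ofHom (AddMonoidHom.mk'
        (fun x => (exists_rel hcov he hc x).choose) fun x x' => rel_unique hcov he
          (exists_rel hcov he hc _).choose_spec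
          (rel_add he (exists_rel hcov he hc x).choose_spec (exists_rel hcov he hc x').choose_spec))
      naturality := fun V W i => by
        ext x
        exact rel_unique hcov he (exists_rel hcov he hc (res M i.unop.le x)).choose_spec
          (rel_res i.unop.le (exists_rel hcov he hc x).choose_spec) }
    fun V r x => rel_unique hcov he (exists_rel hcov he hc _).choose_spec
      (rel_smul he r (exists_rel hcov he hc x).choose_spec)

lemma ofFrames_app (a : ι) : (ofFrames hcov he hc).app (U a) (e a) = n a := by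
  refine rel_unique hcov he (exists_rel hcov he hc (e a)).choose_spec fun b W h h' g hg => ?_
  exact hc b a W h' h g hg

lemma ofFrames_app_res (a : ι) {W : X.Opens} (h : W ≤ U a) :
    (ofFrames hcov he hc).app W (res M h (e a)) = res N h (n a) := by
  rw [app_res, ofFrames_app]

/-- An invertible module has a frame around each point. -/
lemma exists_frame {L : X.Modules} (hL : PicF.IsInvertible L) (x : X) :
    ∃ (U : X.Opens) (_ : x ∈ U) (e : Γ(L, U)), IsFrame e := by
  obtain ⟨U, hx, ⟨φ⟩⟩ := hL x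
  let e' : Γ(L.restrict U.ι, ⊤) := φ.inv.app ⊤ (1 : Γ(U.toScheme, ⊤))
  refine ⟨U, hx, res L (le_of_eq U.ι_image_top.symm) (show Γ(L, U.ι ''ᵁ ⊤) from e'), fun V hV => ?_⟩
  obtain ⟨V', rfl⟩ : ∃ V', U.ι ''ᵁ V' = V := ⟨U.ι ⁻¹ᵁ V, by
    rw [Scheme.Hom.image_preimage_eq_opensRange_inf, Scheme.Opens.opensRange_ι]
    exact inf_eq_right.mpr hV⟩
  have hb : Function.Bijective (φ.inv.app V') :=
    (ConcreteCategory.isIso_iff_bijective _).1 (Scheme.Modules.Hom.isIso_iff_isIso_app.1 inferInstance V')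
  have key : ∀ r : Γ(X, U.ι ''ᵁ V'), (show Γ(L.restrict U.ι, V') from
      r • res L (hV : U.ι ''ᵁ V' ≤ U) (res L (le_of_eq U.ι_image_top.symm)
        (show Γ(L, U.ι ''ᵁ ⊤) from e'))) = φ.inv.app V' ((U.ι.appIso V').hom r) := by
    intro r
    have h1 : φ.inv.app V' (1 : Γ(U.toScheme, V')) = res (L.restrict U.ι) le_top e' := by
      rw [← app_res]
      exact congrArg (φ.inv.app V') (map_one (resR (le_top : V' ≤ ⊤))).symm
    conv_rhs => rw [show (U.ι.appIso V').hom r = (U.ι.appIso V').hom r • (1 : Γ(U.toScheme, V')) from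
      (mul_one _).symm]
    erw [Scheme.Modules.Hom.app_smul, h1]
    rw [res_res]
    show r • res L (U.ι.image_mono (le_top : V' ≤ ⊤)) (show Γ(L, U.ι ''ᵁ ⊤) from e') = (U.ι.appIso V').inv.hom ((U.ι.appIso V').hom r) •
      res L (U.ι.image_mono (le_top : V' ≤ ⊤)) (show Γ(L, U.ι ''ᵁ ⊤) from e')
    rw [Iso.hom_inv_id_apply]
  have he2 : (fun r : Γ(X, U.ι ''ᵁ V') => (show Γ(L.restrict U.ι, V') from
      r • res L (hV : U.ι ''ᵁ V' ≤ U) (res L (le_of_eq U.ι_image_top.symm)
        (show Γ(L, U.ι ''ᵁ ⊤) from e')))) = (φ.inv.app V') ∘ (U.ι.appIso V').hom := funext key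
  have hiso : Function.Bijective (U.ι.appIso V').hom :=
    (ConcreteCategory.isIso_iff_bijective _).1 inferInstance
  exact (congrArg Function.Bijective he2).mpr (hb.comp hiso)

/-- Sections generating an invertible module give frames around each point. -/
lemma exists_frame_of_generated {L : X.Modules} (hL : PicF.IsInvertible L) {κ : Type*}
    (s : κ → Γ(L, ⊤)) (x : X)
    (hs : Submodule.span (X.presheaf.stalk x)
      (Set.range fun i => (L.presheaf.germ ⊤ x trivial).hom (s i)) = ⊤) :
    ∃ (i : κ) (U : X.Opens) (_ : x ∈ U), IsFrame (res L (le_top : U ≤ ⊤) (s i)) := by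
  obtain ⟨U, hx, e, he⟩ := exists_frame hL x
  have hc := fun i => he.exists_coord le_rfl (res L (le_top : U ≤ ⊤) (s i))
  choose g hg using hc
  simp only [res_self] at hg
  by_cases H : ∃ i, x ∈ X.basicOpen (g i)
  · obtain ⟨i, hi⟩ := H
    refine ⟨i, X.basicOpen (g i), hi, ?_⟩
    have := congrArg (res L (X.basicOpen_le (g i))) (hg i)
    rw [res_res, res_smul] at this
    rw [this]
    exact (he.res _).isUnit_smul (isUnit_resR _ _ le_rfl)
  exfalso
  push Not at H
  have hgerm : ∀ i, (L.presheaf.germ ⊤ x trivial).hom (s i) =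
      (X.presheaf.germ U x hx) (g i) • (L.presheaf.germ U x hx).hom e := fun i => by
    rw [← QCoh.germ_smul' L hx, ← hg i]
    exact (L.presheaf.germ_res_apply (homOfLE le_top) x hx (s i)).symm
  have hmax : ∀ i, (X.presheaf.germ U x hx) (g i) ∈ IsLocalRing.maximalIdeal (X.presheaf.stalk x) :=
    fun i h => H i ((X.mem_basicOpen (g i) x hx).2 h)
  have hmem : (L.presheaf.germ U x hx).hom e ∈
      IsLocalRing.maximalIdeal (X.presheaf.stalk x) •
        Submodule.span (X.presheaf.stalk x) {(L.presheaf.germ U x hx).hom e} := by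
    have h1 : (L.presheaf.germ U x hx).hom e ∈ (⊤ : Submodule (X.presheaf.stalk x) _) := trivial
    rw [← hs] at h1
    refine Submodule.span_le.2 ?_ h1
    rintro _ ⟨i, rfl⟩
    show (L.presheaf.germ ⊤ x trivial).hom (s i) ∈ _
    rw [hgerm i]
    exact Submodule.smul_mem_smul (hmax i) (Submodule.mem_span_singleton_self _)
  obtain ⟨c, hc, hce⟩ := Submodule.mem_smul_span_singleton.1 hmem
  obtain ⟨V, hxV, iV, r, hr⟩ : ∃ (V : X.Opens) (hxV : x ∈ V) (hV : V ≤ U) (r : Γ(X, V)),
      X.presheaf.germ V x hxV r = c := by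
    obtain ⟨V, hxV, r, hr⟩ := X.presheaf.germ_exist c
    exact ⟨V ⊓ U, ⟨hxV, hx⟩, inf_le_right, resR inf_le_left r,
      (X.presheaf.germ_res_apply (homOfLE inf_le_left) x ⟨hxV, hx⟩ r).trans hr⟩
  have heq : (L.presheaf.germ V x hxV).hom (r • res L iV e) =
      (L.presheaf.germ V x hxV).hom (res L iV e) := by
    erw [QCoh.germ_smul' L hxV, hr]
    have : (L.presheaf.germ V x hxV).hom (res L iV e) = (L.presheaf.germ U x hx).hom e :=
      L.presheaf.germ_res_apply (homOfLE iV) x hxV e
    rw [this]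
    exact hce
  obtain ⟨W, hxW, a, b, hW⟩ := L.presheaf.germ_eq x hxV hxV _ _ heq
  have hW' : res L (leOfHom a) (r • res L iV e) = res L (leOfHom a) (res L iV e) := hW
  rw [res_smul, res_res] at hW'
  have h1 : resR (leOfHom a) r = 1 := he.coord_unique _ (hW'.trans (one_smul _ _).symm)
  have : c = 1 := by
    rw [← hr, ← X.presheaf.germ_res_apply a x hxW r]
    exact (congrArg _ h1).trans (map_one (X.presheaf.germ W x hxW).hom)
  subst this
  exact (IsLocalRing.maximalIdeal.isMaximal _).ne_top ((Ideal.eq_top_iff_one _).2 hc)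

end Groth.Agent.InvX
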