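import Groth.Agent.RefX.Dual
import Groth.Agent.InvX.GenLocusPull

/-!
# The dual of an invertible module commutes with inverse images
-/

universe u

set_option backward.isDefEq.respectTransparency false
set_option backward.isDefEq.respectTransparency.types false
set_option linter.style.haveILetI false

open CategoryTheory AlgebraicGeometry TopologicalSpace Opposite

namespace Groth.Agent.InvX

variable {X Y : Scheme.{u}} {F : X.Modules} {U : X.Opens} {e : Γ(F, U)}

/-- The dual of a frame is a frame, on any scheme. -/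
theorem isFrame_dualFrame' (he : IsFrame e) : IsFrame (RefX.dualFrame he) := by
  intro V hV
  refine ⟨fun r r' hr => ?_, fun g => ?_⟩
  · have h1 := congrArg (fun z : Γ(RefHull.dual F, V) => RefX.app le_rfl z (AModX.res F hV e)) hr
    refine (isFrame_one V V le_rfl).1 ?_
    dsimp only
    rw [AModX.res_self]
    refine ZClosLib.section_ext (Coh.structureModule X) _ _ fun y hy => ?_
    have h2 := congrArg ((Coh.structureModule X).presheaf.germ V y hy) h1
    dsimp only at h2
    rw [RefX.germ_app, RefX.germ_app, RefX.smul_val, RefX.smul_val, LinearMap.smul_apply, LinearMap.smul_apply,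
      RefX.res_val, germ_res'] at h2
    have h3 : RefX.coordAt he ⟨y, hV hy⟩ (F.presheaf.germ U y (hV hy) e) = RefX.unitStalk y 1 :=
      RefX.coordAt_germ he ⟨y, hV hy⟩
    have h4 : RefX.unitStalk y 1 = (Coh.structureModule X).presheaf.germ V y hy
        (show Γ(Coh.structureModule X, V) from (1 : Γ(X, V))) := by
      refine (RefX.unitStalk y).symm.injective ?_
      rw [LinearEquiv.symm_apply_apply, RefX.unitStalk_symm_germ, map_one]
    rw [QCoh.germ_smul', QCoh.germ_smul']
    change _ • RefX.coordAt he ⟨y, hV hy⟩ _ = _ • RefX.coordAt he ⟨y, hV hy⟩ _ at h2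
    rw [h3, h4] at h2
    exact h2
  · refine ⟨(show Γ(X, V) from RefX.app le_rfl g (AModX.res F hV e)), RefX.sect_ext fun y => LinearMap.ext fun v => ?_⟩
    obtain ⟨a, rfl⟩ := (he.germ_bijective (hV y.2)).2 v
    dsimp only
    refine (map_smul _ a _).trans (Eq.trans ?_ (map_smul (g.1 y) a _).symm)
    refine congrArg (a • ·) ?_
    rw [RefX.smul_val, LinearMap.smul_apply, RefX.res_val]
    refine (congrArg (_ • ·) (RefX.coordAt_germ he ⟨y.1, hV y.2⟩)).trans ?_
    have h5 := RefX.germ_app le_rfl g (AModX.res F hV e) y.2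
    rw [germ_res'] at h5
    refine Eq.trans ?_ h5
    refine (RefX.unitStalk y.1).symm.injective ?_
    rw [map_smul, LinearEquiv.symm_apply_apply, RefX.unitStalk_symm_germ, smul_eq_mul, mul_one]

theorem dualFrame_change {U' : X.Opens} {e' : Γ(F, U')} (he : IsFrame e) (he' : IsFrame e') {W : X.Opens}
    (h : W ≤ U) (h' : W ≤ U') {k : Γ(X, W)} (hk : AModX.res F h' e' = k • AModX.res F h e) :
    AModX.res (RefHull.dual F) h (RefX.dualFrame he) = k • AModX.res (RefHull.dual F) h' (RefX.dualFrame he') := by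
  refine RefX.sect_ext fun y => LinearMap.ext fun v => ?_
  obtain ⟨a, rfl⟩ := (he'.germ_bijective (h' y.2)).2 v
  dsimp only
  refine (map_smul _ a _).trans (Eq.trans ?_ (map_smul _ a _).symm)
  refine congrArg (a • ·) ?_
  rw [RefX.smul_val, LinearMap.smul_apply, RefX.res_val, RefX.res_val]
  refine Eq.trans ?_ (congrArg (_ • ·) (RefX.coordAt_germ he' ⟨y.1, h' y.2⟩)).symm
  have h1 := congrArg (F.presheaf.germ W y.1 y.2) hk
  rw [germ_res', QCoh.germ_smul', germ_res'] at h1
  show RefX.coordAt he ⟨y.1, h y.2⟩ _ = _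
  rw [h1, map_smul, RefX.coordAt_germ he ⟨y.1, h y.2⟩]

variable (u : Y ⟶ X)

theorem nonempty_dual_pullback (hF : PicF.IsInvertible F) :
    Nonempty (RefHull.dual ((Scheme.Modules.pullback u).obj F) ≅
      (Scheme.Modules.pullback u).obj (RefHull.dual F)) := by
  choose V hV e he using exists_frame hF
  let ι := ↥Y
  let U' : ι → Y.Opens := fun y => u ⁻¹ᵁ V (u.base y)
  have hcov : ∀ y, ∃ a : ι, y ∈ U' a := fun y => ⟨y, hV _⟩
  let a : ∀ y : ι, Γ(RefHull.dual ((Scheme.Modules.pullback u).obj F), U' y) :=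
    fun y => RefX.dualFrame (isFrame_pullElt u (he (u.base y)))
  let b : ∀ y : ι, Γ((Scheme.Modules.pullback u).obj (RefHull.dual F), U' y) :=
    fun y => pullElt u (RefX.dualFrame (he (u.base y)))
  have ha : ∀ y, IsFrame (a y) := fun y => isFrame_dualFrame' _
  have hb : ∀ y, IsFrame (b y) := fun y => isFrame_pullElt u (isFrame_dualFrame' _)
  have key : ∀ (y z : ι) (W : Y.Opens) (hy : W ≤ U' y) (hz : W ≤ U' z), ∃ g : Γ(Y, W),
      AModX.res _ hy (a y) = g • AModX.res _ hz (a z) ∧ AModX.res _ hy (b y) = g • AModX.res _ hz (b z) := by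
    intro y z W hy hz
    let T := V (u.base y) ⊓ V (u.base z)
    obtain ⟨k, hk⟩ := (he (u.base y)).exists_coord (inf_le_left : T ≤ _) (AModX.res F (inf_le_right : T ≤ _) (e _))
    have hW : W ≤ u ⁻¹ᵁ T := fun p hp => ⟨hy hp, hz hp⟩
    refine ⟨AModX.resR hW (u.app T k), ?_, ?_⟩
    · refine dualFrame_change (isFrame_pullElt u (he (u.base y))) (isFrame_pullElt u (he (u.base z))) hy hz ?_
      have h1 := congrArg (AModX.res ((Scheme.Modules.pullback u).obj F) hW) (congrArg (pullElt u) hk)
      rw [pullElt_smul, AModX.res_smul, ← res_pullElt, ← res_pullElt, AModX.res_res, AModX.res_res] at h1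
      exact h1
    · have h0 := dualFrame_change (he (u.base y)) (he (u.base z)) (inf_le_left : T ≤ _) (inf_le_right : T ≤ _) hk
      have h1 := congrArg (AModX.res ((Scheme.Modules.pullback u).obj (RefHull.dual F)) hW) (congrArg (pullElt u) h0)
      rw [pullElt_smul, AModX.res_smul, ← res_pullElt, ← res_pullElt, AModX.res_res, AModX.res_res] at h1
      exact h1
  have cab : ∀ (y z : ι) (W : Y.Opens) (hy : W ≤ U' y) (hz : W ≤ U' z) (g : Γ(Y, W)),
      AModX.res _ hz (a z) = g • AModX.res _ hy (a y) → AModX.res _ hz (b z) = g • AModX.res _ hy (b y) :=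
    fun y z W hy hz g hg => by
      obtain ⟨g', h1, h2⟩ := key z y W hz hy
      rw [h2, (ha y).coord_unique hy (hg.symm.trans h1)]
  have cba : ∀ (y z : ι) (W : Y.Opens) (hy : W ≤ U' y) (hz : W ≤ U' z) (g : Γ(Y, W)),
      AModX.res _ hz (b z) = g • AModX.res _ hy (b y) → AModX.res _ hz (a z) = g • AModX.res _ hy (a y) :=
    fun y z W hy hz g hg => by
      obtain ⟨g', h1, h2⟩ := key z y W hz hy
      rw [h1, (hb y).coord_unique hy (hg.symm.trans h2)]
  refine ⟨⟨ofFrames hcov ha cab, ofFrames hcov hb cba, hom_ext_of_frames U' hcov a ha fun y => ?_,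
    hom_ext_of_frames U' hcov b hb fun y => ?_⟩⟩
  · show (ofFrames hcov hb cba).app (U' y) ((ofFrames hcov ha cab).app (U' y) (a y)) = a y
    rw [ofFrames_app, ofFrames_app]
  · show (ofFrames hcov ha cab).app (U' y) ((ofFrames hcov hb cba).app (U' y) (b y)) = b y
    rw [ofFrames_app, ofFrames_app]

end Groth.Agent.InvX
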